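import Mathlib
import Cfsg.Agent.Lib.Helper93.M11U.Defs
import Cfsg.Agent.Lib.Helper91.M11Sylow

set_option autoImplicit false

/-!
# S0420, package [KSIMPLE]: a subgroup of order `660` of a simple group of order `7920` is simple
-/

namespace Cfsg.Agent.Lib.Helper20.M11U

universe u

/-- fixed-point congruence for the conjugation by an element `q` with `q ^ p = 1` on a finite
`q`-invariant set -/
theorem conj_card_modEq {K : Type u} [Group K] (p : ℕ) [Fact p.Prime] (q : K) (hq : q ^ p = 1)
    (S : Set K) (hfin : S.Finite) (hS : ∀ x ∈ S, q * x * q⁻¹ ∈ S) :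
    S.ncard ≡ {x ∈ S | q * x = x * q}.ncard [MOD p] := by
  classical
  have : Fintype S := hfin.fintype
  let f : Function.End S := fun x => ⟨q * x.1 * q⁻¹, hS x.1 x.2⟩
  have hpow : ∀ k : ℕ, ∀ x : S, ((f ^ k) x : K) = q ^ k * x.1 * (q ^ k)⁻¹ := by
    intro k
    induction k with
    | zero => intro x; rw [pow_zero]; simp; rfl
    | succ k ih =>
      intro x
      rw [pow_succ']
      show q * ((f ^ k) x : K) * q⁻¹ = _
      rw [ih x, pow_succ']
      group
  have hf : f ^ p ^ 1 = 1 := by
    rw [pow_one]
    funext x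
    apply Subtype.ext
    show ((f ^ p) x : K) = x.1
    rw [hpow, hq]
    simp
  have h := Equiv.Perm.card_fixedPoints_modEq (α := S) hf
  have h1 : Fintype.card S = S.ncard := by
    rw [← Nat.card_eq_fintype_card, Nat.card_coe_set_eq]
  have h2 : Fintype.card (Function.fixedPoints f) = {x ∈ S | q * x = x * q}.ncard := by
    rw [← Nat.card_eq_fintype_card, Nat.card_coe_set_eq]
    have himg : {x ∈ S | q * x = x * q} = Subtype.val '' (Function.fixedPoints f) := by
      ext x
      constructor
      · rintro ⟨hx, hxq⟩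
        refine ⟨⟨x, hx⟩, ?_, rfl⟩
        show f ⟨x, hx⟩ = ⟨x, hx⟩
        apply Subtype.ext
        show q * x * q⁻¹ = x
        rw [hxq]; group
      · rintro ⟨y, hy, rfl⟩
        refine ⟨y.2, ?_⟩
        have : (f y : K) = y.1 := congrArg Subtype.val hy
        have h3 : q * y.1 * q⁻¹ = y.1 := this
        calc q * y.1 = q * y.1 * q⁻¹ * q := by group
          _ = y.1 * q := by rw [h3]
    rw [himg, Set.ncard_image_of_injective _ Subtype.val_injective]
  rw [h1, h2] at h
  exact h

/-- a group of order `12` normalized by an element of order `11` acting fixed-point-freely does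
not exist -/
theorem no_twelve {K : Type u} [Group K] (M : Subgroup K) (hM : Nat.card M = 12) (q : K)
    (hq : orderOf q = 11) (hn : ∀ m ∈ M, q * m * q⁻¹ ∈ M)
    (hc : ∀ m ∈ M, q * m = m * q → m = 1) : False := by
  have : Fact (Nat.Prime 11) := ⟨by norm_num⟩
  have : Fact (Nat.Prime 2) := ⟨by norm_num⟩
  have : Fact (Nat.Prime 3) := ⟨by norm_num⟩
  have : Finite M := Nat.finite_of_card_ne_zero (by omega)
  obtain ⟨t, ht⟩ := exists_prime_orderOf_dvd_card' (G := M) 2 (by rw [hM]; norm_num)
  obtain ⟨s, hs⟩ := exists_prime_orderOf_dvd_card' (G := M) 3 (by rw [hM]; norm_num)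
  have hfinM : (M : Set K).Finite := Set.toFinite _
  have hfin : ∀ d : ℕ, {x : K | x ∈ M ∧ orderOf x = d}.Finite := fun d =>
    hfinM.subset (fun x hx => hx.1)
  have key : ∀ d : ℕ, d ≠ 1 → 11 ∣ {x : K | x ∈ M ∧ orderOf x = d}.ncard := by
    intro d hd
    have h := conj_card_modEq 11 q (by rw [← hq]; exact pow_orderOf_eq_one q) _ (hfin d) (by
      rintro x ⟨hx, hxd⟩
      refine ⟨hn x hx, ?_⟩
      rw [← hxd]
      have : q * x * q⁻¹ = MulAut.conj q x := by simp [MulAut.conj_apply]
      rw [this, MulEquiv.orderOf_eq])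
    have hempty : {x ∈ {x : K | x ∈ M ∧ orderOf x = d} | q * x = x * q} = ∅ := by
      ext x
      simp only [Set.mem_ofPred_eq, Set.mem_empty_iff_false, iff_false]
      rintro ⟨⟨hx, hxd⟩, hcomm⟩
      have := hc x hx hcomm
      subst this
      rw [orderOf_one] at hxd
      exact hd hxd.symm
    rw [hempty, Set.ncard_empty] at h
    exact (Nat.modEq_zero_iff_dvd.mp h)
  have hA : 11 ≤ {x : K | x ∈ M ∧ orderOf x = 2}.ncard := by
    refine Nat.le_of_dvd ?_ (key 2 (by norm_num))
    rw [Set.ncard_pos (hfin 2)]
    exact ⟨(t : K), t.2, by rw [Subgroup.orderOf_coe]; exact ht⟩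
  have hB : 11 ≤ {x : K | x ∈ M ∧ orderOf x = 3}.ncard := by
    refine Nat.le_of_dvd ?_ (key 3 (by norm_num))
    rw [Set.ncard_pos (hfin 3)]
    exact ⟨(s : K), s.2, by rw [Subgroup.orderOf_coe]; exact hs⟩
  have hdisj : Disjoint {x : K | x ∈ M ∧ orderOf x = 2} {x : K | x ∈ M ∧ orderOf x = 3} := by
    rw [Set.disjoint_left]
    rintro x ⟨-, h2⟩ ⟨-, h3⟩
    omega
  have hunion := Set.ncard_union_eq hdisj (hfin 2) (hfin 3)
  have hsub : {x : K | x ∈ M ∧ orderOf x = 2} ∪ {x : K | x ∈ M ∧ orderOf x = 3} ⊆
      (M : Set K) \ {1} := by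
    rintro x (⟨hx, h2⟩ | ⟨hx, h3⟩)
    · refine ⟨hx, ?_⟩
      rintro rfl
      rw [orderOf_one] at h2; omega
    · refine ⟨hx, ?_⟩
      rintro rfl
      rw [orderOf_one] at h3; omega
  have hle := Set.ncard_le_ncard hsub (hfinM.subset Set.sdiff_subset)
  have hMc : (M : Set K).ncard = 12 := by
    rw [← Nat.card_coe_set_eq]; exact hM
  have hdiff : ((M : Set K) \ {1}).ncard = 11 := by
    rw [Set.ncard_sdiff_singleton_of_mem M.one_mem, hMc]
  omega

set_option maxHeartbeats 1600000 in
/-- a group of order `660` with a self-centralizing non-normal subgroup of order `11` is simple -/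
theorem simple_660 {K : Type u} [Group K] [Finite K] (hK : Nat.card K = 660) (q : K)
    (hq : orderOf q = 11) (hC : ∀ x : K, q * x = x * q → x ∈ Subgroup.zpowers q)
    (hN : ¬ (Subgroup.zpowers q).Normal) : IsSimpleGroup K := by
  have : Fact (Nat.Prime 11) := ⟨by norm_num⟩
  have : Nontrivial K := by
    rw [← Finite.one_lt_card_iff_nontrivial]; omega
  refine IsSimpleGroup.mk ?_
  intro N hNn
  by_contra hcon
  rw [not_or] at hcon
  obtain ⟨hbot, htop⟩ := hcon
  have hdvd : Nat.card N ∣ 660 := hK ▸ Subgroup.card_subgroup_dvd_card N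
  have hNne660 : Nat.card N ≠ 660 := fun h =>
    htop (Subgroup.eq_top_of_card_eq N (h.trans hK.symm))
  have hNne1 : Nat.card N ≠ 1 := fun h => hbot (Subgroup.card_eq_one.mp h)
  have hq11 : q ^ 11 = 1 := by rw [← hq]; exact pow_orderOf_eq_one q
  have hqn : ∀ m ∈ N, q * m * q⁻¹ ∈ N := fun m hm => hNn.conj_mem m hm q
  have hcomm : ∀ m : K, q * m = m * q → orderOf m ∣ 11 := by
    intro m hmq
    have h1 := hC m hmq
    have h2 := Subgroup.orderOf_dvd_natCard _ h1
    rwa [Nat.card_zpowers, hq] at h2
  by_cases h11 : 11 ∣ Nat.card N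
  · -- case (b)
    have hidx : Nat.card N * N.index = 660 := by rw [Subgroup.card_mul_index, hK]
    have hqN : q ∈ N := by
      rw [← QuotientGroup.eq_one_iff]
      have h1 : ((q : K ⧸ N)) ^ 11 = 1 := by
        rw [← QuotientGroup.mk_pow, hq11]; rfl
      have h2 : ((q : K ⧸ N)) ^ N.index = 1 := by
        have : N.index = Nat.card (K ⧸ N) := rfl
        rw [this]; exact pow_card_eq_one'
      have h3 := orderOf_dvd_of_pow_eq_one h1
      have h4 := orderOf_dvd_of_pow_eq_one h2
      have h5 : ¬ (11 ∣ N.index) := by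
        intro h
        obtain ⟨a, ha⟩ := h11
        obtain ⟨b, hb⟩ := h
        rw [ha, hb] at hidx
        have : 121 * (a * b) = 660 := by rw [← hidx]; ring
        omega
      have h6 : orderOf (q : K ⧸ N) = 1 := by
        rcases (Nat.dvd_prime (by norm_num : Nat.Prime 11)).mp h3 with h | h
        · exact h
        · rw [h] at h4; exact absurd h4 h5
      exact orderOf_eq_one_iff.mp h6
    obtain ⟨q', hq'⟩ : ∃ q' : N, q' = ⟨q, hqN⟩ := ⟨_, rfl⟩
    have hq'o : orderOf q' = 11 := by
      rw [← Subgroup.orderOf_coe, hq']; exact hq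
    have hzc : Nat.card (Subgroup.zpowers q') = 11 := by rw [Nat.card_zpowers, hq'o]
    obtain ⟨P, hP⟩ := (IsPGroup.of_card (p := 11) (n := 1) (G := Subgroup.zpowers q')
      (by rw [hzc, pow_one])).exists_le_sylow
    have hPcard : Nat.card (P : Subgroup N) = 11 := by
      obtain ⟨k, hk⟩ := IsPGroup.iff_card.mp P.2
      have h1 : Nat.card (P : Subgroup N) ∣ 660 :=
        (Subgroup.card_subgroup_dvd_card _).trans hdvd
      have h2 : 11 ∣ Nat.card (P : Subgroup N) := by
        have := Subgroup.card_dvd_of_le hP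
        rwa [hzc] at this
      have hk' : Nat.card (P : Subgroup N) = 11 ^ k := hk
      rw [hk'] at h1 h2 ⊢
      rcases k with _ | _ | k
      · norm_num at h2
      · norm_num
      · exfalso
        have : 121 ∣ 660 := (Dvd.intro (11 ^ k) (by ring)).trans h1
        omega
    have hPz : Subgroup.zpowers q' = (P : Subgroup N) :=
      Subgroup.eq_of_le_of_card_ge hP (by rw [hPcard, hzc])
    have hn1 : Nat.card (Sylow 11 N) ≡ 1 [MOD 11] := card_sylow_modEq_one 11 N
    have hn2 : Nat.card (Sylow 11 N) ∣ (P : Subgroup N).index := P.card_dvd_index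
    have hPidx : 11 * (P : Subgroup N).index = Nat.card N := by
      have := Subgroup.card_mul_index (P : Subgroup N)
      rw [hPcard] at this
      exact this
    have hidx60 : (P : Subgroup N).index ∣ 60 := by
      have : 11 * (P : Subgroup N).index ∣ 11 * 60 := by rw [hPidx]; exact hdvd
      exact Nat.dvd_of_mul_dvd_mul_left (by norm_num) this
    have hidxne : (P : Subgroup N).index ≠ 60 := by
      intro h; apply hNne660; rw [← hPidx, h]
    have hcases : Nat.card (Sylow 11 N) = 1 ∨
        (Nat.card (Sylow 11 N) = 12 ∧ (P : Subgroup N).index = 12) := by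
      have hle : (P : Subgroup N).index ≤ 60 := Nat.le_of_dvd (by norm_num) hidx60
      have hpos : 0 < (P : Subgroup N).index := by
        rcases Nat.eq_zero_or_pos (P : Subgroup N).index with h | h
        · rw [h] at hidx60; omega
        · exact h
      have hnle : Nat.card (Sylow 11 N) ≤ (P : Subgroup N).index := Nat.le_of_dvd hpos hn2
      unfold Nat.ModEq at hn1
      generalize (P : Subgroup N).index = i at *
      generalize Nat.card (Sylow 11 N) = n at *
      have hn : n = 1 ∨ n = 12 ∨ n = 23 ∨ n = 34 ∨ n = 45 ∨ n = 56 := by omega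
      rcases hn with rfl | rfl | rfl | rfl | rfl | rfl
      · left; rfl
      · right
        refine ⟨rfl, ?_⟩
        interval_cases i <;> omega
      all_goals (exfalso; interval_cases i <;> omega)
    rcases hcases with h1 | ⟨h12, hi12⟩
    · -- the Sylow subgroup is normal in `N`, hence in `K`
      have : Subsingleton (Sylow 11 N) := (Nat.card_eq_one_iff_unique.mp h1).1
      have : (P : Subgroup N).Characteristic := Sylow.characteristic_of_subsingleton P
      have hnor : ((P : Subgroup N).map N.subtype).Normal :=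
        ConjAct.normal_of_characteristic_of_normal
      apply hN
      have : (P : Subgroup N).map N.subtype = Subgroup.zpowers q := by
        rw [← hPz, MonoidHom.map_zpowers, hq']; rfl
      rwa [this] at hnor
    · -- Burnside's transfer theorem gives a normal complement of order `12`
      have hN132 : Nat.card N = 132 := by rw [← hPidx, hi12]
      have hnorm : (Subgroup.normalizer ((P : Subgroup N) : Set N)).index = 12 := by
        have := P.card_eq_index_normalizer
        rw [h12] at this
        exact this.symm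
      have hnormcard : Nat.card (Subgroup.normalizer ((P : Subgroup N) : Set N)) = 11 := by
        have := Subgroup.card_mul_index (Subgroup.normalizer ((P : Subgroup N) : Set N))
        rw [hnorm, hN132] at this; omega
      have hPeq : (P : Subgroup N) = Subgroup.normalizer ((P : Subgroup N) : Set N) :=
        Subgroup.eq_of_le_of_card_ge Subgroup.le_normalizer (by rw [hnormcard, hPcard])
      have hPc : Subgroup.normalizer ((P : Subgroup N) : Set N) ≤
          Subgroup.centralizer ((P : Subgroup N) : Set N) := by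
        rw [← hPeq, ← hPz]
        intro x hx y hy
        obtain ⟨a, rfl⟩ := Subgroup.mem_zpowers_iff.mp hx
        have hy' : y ∈ Subgroup.zpowers q' := hy
        obtain ⟨b, rfl⟩ := Subgroup.mem_zpowers_iff.mp hy'
        exact ((Commute.refl q').zpow_zpow b a).eq
      have hcompl := MonoidHom.ker_transferSylow_isComplement' P hPc
      obtain ⟨M', hM'⟩ : ∃ M' : Subgroup N, M' = (MonoidHom.transferSylow P hPc).ker := ⟨_, rfl⟩
      rw [← hM'] at hcompl
      have hM'n : M'.Normal := by rw [hM']; infer_instance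
      have hM'card : Nat.card M' = 12 := by
        have := hcompl.card_mul_card
        rw [hPcard, hN132] at this; omega
      have hMcard : Nat.card (M'.map N.subtype) = 12 := by
        rw [Subgroup.card_map_of_injective N.subtype_injective]  
        exact hM'card
      refine no_twelve (M'.map N.subtype) hMcard q hq ?_ ?_
      · rintro m ⟨m', hm', rfl⟩
        refine ⟨q' * m' * q'⁻¹, hM'n.conj_mem m' hm' q', ?_⟩
        rw [hq']; rfl
      · rintro m ⟨m', hm', rfl⟩ hmq
        have h1 := hcomm _ hmq
        have h2 : orderOf (N.subtype m') ∣ 12 := by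
          rw [Subgroup.coe_subtype, Subgroup.orderOf_coe, ← hM'card]
          exact Subgroup.orderOf_dvd_natCard _ hm'
        have h3 : orderOf (N.subtype m') ∣ Nat.gcd 11 12 := Nat.dvd_gcd h1 h2
        have h4 : orderOf (N.subtype m') = 1 := by
          have : Nat.gcd 11 12 = 1 := by norm_num
          rw [this] at h3
          exact Nat.dvd_one.mp h3
        exact orderOf_eq_one_iff.mp h4
  · -- case (a)
    have hc : ∀ m ∈ N, q * m = m * q → m = 1 := by
      intro m hm hmq
      have h1 := hcomm m hmq
      have h2 : orderOf m ∣ Nat.card N := Subgroup.orderOf_dvd_natCard N hm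
      have : orderOf m = 1 := by
        rcases (Nat.dvd_prime (by norm_num : Nat.Prime 11)).mp h1 with h | h
        · exact h
        · rw [h] at h2; exact absurd h2 h11
      exact orderOf_eq_one_iff.mp this
    have hmod := conj_card_modEq 11 q hq11 (N : Set K) (Set.toFinite _) hqn
    have hfix : {x ∈ (N : Set K) | q * x = x * q} = {1} := by
      ext x
      constructor
      · rintro ⟨hx, hxq⟩; exact hc x hx hxq
      · intro hx
        rw [Set.mem_singleton_iff] at hx
        subst hx
        exact ⟨N.one_mem, by simp⟩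
    rw [hfix, Set.ncard_singleton] at hmod
    have hcard : (N : Set K).ncard = Nat.card N := by
      rw [← Nat.card_coe_set_eq]; rfl
    rw [hcard] at hmod
    have h12 : Nat.card N = 12 := by
      have hle : Nat.card N ≤ 660 := Nat.le_of_dvd (by norm_num) hdvd
      unfold Nat.ModEq at hmod
      generalize Nat.card N = n at *
      have hn : ∃ j, n = 11 * j + 1 ∧ j ≤ 59 := ⟨n / 11, by omega, by omega⟩
      obtain ⟨j, rfl, hj⟩ := hn
      interval_cases j <;> omega
    exact no_twelve N h12 q hq hqn hc

/-- **[KSIMPLE]** a subgroup of order `660` of a simple group of order `7920` is simple -/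
theorem pkgKSimple : Cfsg.Agent.Lib.Helper93.M11U.PkgKSimple.{u} := by
  intro G _ _ hG hcard K hK
  have : Fact (Nat.Prime 11) := ⟨by norm_num⟩
  have : Finite K := Nat.finite_of_card_ne_zero (by omega)
  obtain ⟨q, hq⟩ := exists_prime_orderOf_dvd_card' (G := K) 11 (by rw [hK]; norm_num)
  have hqG : orderOf (q : G) = 11 := by rw [Subgroup.orderOf_coe]; exact hq
  have hzc : Nat.card (Subgroup.zpowers (q : G)) = 11 := by rw [Nat.card_zpowers, hqG]
  obtain ⟨P, hP⟩ := (IsPGroup.of_card (p := 11) (n := 1) (G := Subgroup.zpowers (q : G))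
    (by rw [hzc, pow_one])).exists_le_sylow
  obtain ⟨hP11, hNP, hCP, -⟩ := Cfsg.Agent.Lib.Helper91.M11.sylow11 hcard P
  have hPz : Subgroup.zpowers (q : G) = (P : Subgroup G) :=
    Subgroup.eq_of_le_of_card_ge hP (by rw [hP11, hzc])
  refine simple_660 hK q hq ?_ ?_
  · intro x hx
    have hc : Commute (q : G) (x : G) := congrArg Subtype.val hx
    have hx' : (x : G) ∈ Subgroup.centralizer ((P : Subgroup G) : Set G) := by
      rw [← hPz]
      intro y hy
      obtain ⟨a, rfl⟩ := Subgroup.mem_zpowers_iff.mp hy
      exact (hc.zpow_left a).eq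
    rw [hCP, ← hPz] at hx'
    obtain ⟨a, ha⟩ := Subgroup.mem_zpowers_iff.mp hx'
    rw [Subgroup.mem_zpowers_iff]
    refine ⟨a, Subtype.ext ?_⟩
    rw [Subgroup.coe_zpow]
    exact ha
  · intro hnor
    have hconj : ∀ k ∈ K, ∀ h ∈ Subgroup.zpowers (q : G), k * h * k⁻¹ ∈ Subgroup.zpowers (q : G) := by
      intro k hk h hh
      obtain ⟨a, rfl⟩ := Subgroup.mem_zpowers_iff.mp hh
      have h1 : (⟨k, hk⟩ : K) * q ^ a * (⟨k, hk⟩ : K)⁻¹ ∈ Subgroup.zpowers q :=
        hnor.conj_mem _ (Subgroup.zpow_mem_zpowers q a) _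
      obtain ⟨b, hb⟩ := Subgroup.mem_zpowers_iff.mp h1
      rw [Subgroup.mem_zpowers_iff]
      refine ⟨b, ?_⟩
      have := congrArg Subtype.val hb
      rw [Subgroup.coe_zpow] at this
      rw [this]
      simp
    have hle : K ≤ Subgroup.normalizer ((P : Subgroup G) : Set G) := by
      intro k hk
      rw [← hPz, Subgroup.mem_normalizer_iff]
      intro h
      constructor
      · intro hh
        exact hconj k hk h hh
      · intro hh
        have := hconj k⁻¹ (K.inv_mem hk) _ hh
        have e : k⁻¹ * (k * h * k⁻¹) * k⁻¹⁻¹ = h := by group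
        rwa [e] at this
    have := Subgroup.card_le_of_le hle
    rw [hNP, hK] at this
    omega

end Cfsg.Agent.Lib.Helper20.M11U
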